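import Cfsg.Agent.Lib.LeastNonPClosed.Simple
import Cfsg.Agent.Lib.LocalStr.Irreducible
import Cfsg.Agent.Lib.Solvable.CoprimeAction
import Mathlib.Algebra.IsPrimePow

/-!
A lower bound for the order of a group which is not `p`-closed.
-/

set_option autoImplicit false
set_option linter.style.haveILetI false

namespace CfsgLib.LeastNonPClosed

open Subgroup Cfsg CfsgLib.LocalStr

variable {H : Type*} [Group H] [Finite H] {p : ℕ} [Fact p.Prime]

theorem normal_of_normal_pClosed {K : Subgroup H} [K.Normal] (hK : IsPClosed p ↥K)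
    (hdvd : p ∣ Nat.card K) (S : Sylow p H) (hS : Nat.card ↥(S : Subgroup H) = p) :
    IsPClosed p H := by
  obtain ⟨Q⟩ : Nonempty (Sylow p K) := inferInstance
  haveI := Sylow.characteristic_of_normal Q (hK Q)
  set R := (Q : Subgroup K).map K.subtype
  haveI : R.Normal := ConjAct.normal_of_characteristic_of_normal
  have hR : Nat.card R = Nat.card ↥(Q : Subgroup K) :=
    (Nat.card_congr (equivMapOfInjective _ K.subtype K.subtype_injective).toEquiv).symm
  have h1 : p ∣ Nat.card R := hR ▸ (dvd_pow_self p (Nat.Prime.factorization_pos_of_dvd Fact.out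
    Nat.card_pos.ne' hdvd).ne').trans (dvd_of_eq Q.card_eq_multiplicity.symm)
  have hpg : IsPGroup p R := Q.isPGroup'.map _
  obtain ⟨T, hT⟩ := hpg.exists_le_sylow
  have hTcard : Nat.card ↥(T : Subgroup H) = p := by
    rw [T.card_eq_multiplicity, ← S.card_eq_multiplicity, hS]
  have hRT : R = (T : Subgroup H) :=
    eq_of_le_of_card_ge hT (hTcard.le.trans (Nat.le_of_dvd Nat.card_pos h1))
  exact isPClosed_of_normal T (hRT ▸ inferInstance)

theorem card_lt_of_ne_top {K : Subgroup H} (hK : K ≠ ⊤) : Nat.card K < Nat.card H :=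
  lt_of_le_of_ne (card_le_card_group K) fun h => hK (eq_top_of_card_eq K h)

/-- the solvable configuration: a proper non-trivial normal subgroup gives the order `p ·` a prime power
which is `1` modulo `p`. -/
theorem bound_of_normal (hnc : ¬ IsPClosed p H) (hsub : ∀ K : Subgroup H, K ≠ ⊤ → IsPClosed p ↥K)
    (hquo : ∀ (N : Subgroup H) [N.Normal], N ≠ ⊥ → IsPClosed p (H ⧸ N))
    (P : Sylow p H) (hP : Nat.card ↥(P : Subgroup H) = p) (N : Subgroup H) [N.Normal] (hN : N ≠ ⊥)
    (hNt : N ≠ ⊤) : ∃ m, IsPrimePow m ∧ m % p = 1 ∧ p * m ≤ Nat.card H := by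
  have hp : p.Prime := Fact.out
  have hsmall : ∀ K : Subgroup H, K.Normal → K ≠ ⊤ → ¬ p ∣ Nat.card K := fun K hK hKt hd =>
    hnc (haveI := hK; normal_of_normal_pClosed (hsub K hKt) hd P hP)
  have hpN : ¬ p ∣ Nat.card N := hsmall N inferInstance hNt
  have hPN : (P : Subgroup H) ⊔ N = ⊤ := by
    have hn : ((P : Subgroup H) ⊔ N).Normal := by
      have h := (hquo N hN (P.mapSurjective (QuotientGroup.mk'_surjective N))).comap (QuotientGroup.mk' N)
      rwa [Sylow.coe_mapSurjective, comap_map_eq, QuotientGroup.ker_mk'] at h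
    by_contra hne
    exact hsmall _ hn hne ((dvd_of_eq hP.symm).trans (card_dvd_of_le le_sup_left))
  have hnP : ¬ (P : Subgroup H).Normal := fun h => hnc (isPClosed_of_normal P h)
  have hcop : (Nat.card ↥(P : Subgroup H)).Coprime (Nat.card N) := by
    rw [hP]; exact hp.coprime_iff_not_dvd.2 hpN
  have hPsolv : Group.IsSolvable ↥(P : Subgroup H) := by
    have := P.isPGroup'.isNilpotent
    infer_instance
  have hPN' : (P : Subgroup H) ≤ normalizer (N : Set H) := by simp [normalizer_eq_top]
  -- a prime whose invariant Sylow subgroup is not centralised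
  obtain ⟨q, hq, Q, hQP, hQc⟩ : ∃ (q : ℕ) (_ : Fact q.Prime) (Q : Sylow q N),
      (P : Subgroup H) ≤ normalizer ((Q : Subgroup N).map N.subtype : Set H) ∧
        ¬ (Q : Subgroup N).map N.subtype ≤ centralizer ((P : Subgroup H) : Set H) := by
    by_contra hcon
    push Not at hcon
    have hle : N ≤ centralizer ((P : Subgroup H) : Set H) := by
      have hdvd : Nat.card N ∣ Nat.card ↥(N ⊓ centralizer ((P : Subgroup H) : Set H)) := by
        refine (Nat.factorization_le_iff_dvd Nat.card_pos.ne' Nat.card_pos.ne').1 fun q => ?_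
        by_cases hq : q.Prime
        · haveI : Fact q.Prime := ⟨hq⟩
          obtain ⟨Q, hQ⟩ := Solvable.exists_invariant_sylow hPN' hcop (Or.inl hPsolv) q
          have hc := hcon q ⟨hq⟩ Q hQ
          have h1 : q ^ (Nat.card N).factorization q ∣
              Nat.card ↥(N ⊓ centralizer ((P : Subgroup H) : Set H)) := by
            rw [← Q.card_eq_multiplicity,
              Nat.card_congr (equivMapOfInjective _ N.subtype N.subtype_injective).toEquiv]
            exact card_dvd_of_le (le_inf (map_subtype_le _) hc)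
          exact (hq.pow_dvd_iff_le_factorization Nat.card_pos.ne').1 h1
        · rw [Nat.factorization_eq_zero_of_not_prime _ hq]; exact Nat.zero_le _
      exact inf_eq_left.1 (eq_of_le_of_card_ge inf_le_left (Nat.le_of_dvd Nat.card_pos hdvd))
    apply hnP
    rw [← normalizer_eq_top_iff, eq_top_iff, ← hPN]
    exact sup_le le_normalizer (hle.trans (centralizer_le_normalizer _))
  haveI := hq
  set R := (Q : Subgroup N).map N.subtype
  have hRN : R ≤ N := map_subtype_le _
  have hdisj : Disjoint (P : Subgroup H) R :=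
    disjoint_iff.2 (inf_eq_bot_of_coprime (by
      rw [hP]; exact hp.coprime_iff_not_dvd.2 fun h => hpN (h.trans (card_dvd_of_le hRN))))
  have htop : (P : Subgroup H) ⊔ R = ⊤ := by
    by_contra hne
    apply hQc
    have hPK : (P : Subgroup H) ≤ (P : Subgroup H) ⊔ R := le_sup_left
    have hn := hsub _ hne (P.subtype hPK)
    rw [Sylow.coe_subtype] at hn
    have hcomm : ∀ r ∈ R, ∀ x ∈ (P : Subgroup H), x * r = r * x := by
      intro r hr x hx
      have h1 : r * x * r⁻¹ ∈ (P : Subgroup H) := by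
        have := hn.conj_mem ⟨x, hPK hx⟩ hx ⟨r, mem_sup_right hr⟩
        exact this
      have h2 : x⁻¹ * r * x ∈ R := by
        have := (mem_normalizer_iff''.1 (hQP hx) r).1 hr
        exact this
      have h3 : x⁻¹ * (r * x * r⁻¹) = (x⁻¹ * r * x) * r⁻¹ := by group
      have h4 : x⁻¹ * (r * x * r⁻¹) ∈ (P : Subgroup H) ⊓ R :=
        mem_inf.2 ⟨mul_mem (inv_mem hx) h1, h3 ▸ mul_mem h2 (inv_mem hr)⟩
      rw [hdisj.eq_bot, mem_bot, inv_mul_eq_one, eq_mul_inv_iff_mul_eq] at h4
      exact h4
    exact fun r hr => mem_centralizer_iff.2 fun x hx => hcomm r hr x hx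
  haveI hRn : R.Normal := by
    rw [← normalizer_eq_top_iff, eq_top_iff, ← htop]
    exact sup_le hQP le_normalizer
  have hcompl : IsComplement' R (P : Subgroup H) := by
    refine isComplement'_of_disjoint_and_mul_eq_univ hdisj.symm ?_
    rw [← normal_mul, sup_comm, htop, coe_top]
  have hidx : (P : Subgroup H).index = Nat.card R := hcompl.index_eq_card
  have hnp1 : Nat.card (Sylow p H) ≠ 1 := fun h1 => hnP (normalizer_eq_top_iff.1
    (index_eq_one.1 (P.card_eq_index_normalizer.symm.trans h1)))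
  obtain ⟨j, -, hj⟩ : ∃ j ≤ (Nat.card N).factorization q, Nat.card (Sylow p H) = q ^ j := by
    refine (Nat.dvd_prime_pow hq.out).1 ?_
    rw [← Q.card_eq_multiplicity,
      Nat.card_congr (equivMapOfInjective _ N.subtype N.subtype_injective).toEquiv, ← hidx]
    exact P.card_dvd_index
  refine ⟨Nat.card (Sylow p H), ?_, ?_, ?_⟩
  · exact (isPrimePow_nat_iff _).2 ⟨q, j, hq.out, Nat.pos_of_ne_zero (by
      rintro rfl; exact hnp1 (by rw [hj, pow_zero])), hj.symm⟩
  · rw [card_sylow_modEq_one p H, Nat.mod_eq_of_lt hp.one_lt]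
  · rw [← (P : Subgroup H).card_mul_index, hP]
    exact Nat.mul_le_mul_left _ (Nat.le_of_dvd (Nat.pos_of_ne_zero index_ne_zero_of_finite) P.card_dvd_index)

theorem le_card (m : ℕ) (hleast : ∀ k : ℕ, IsPrimePow k → k % p = 1 → m ≤ k) :
    ∀ (n : ℕ) (K : Type) [Group K] [Finite K], Nat.card K = n → ¬ IsPClosed p K →
      min (p * m) (p * (p ^ 2 - 1) / 2) ≤ n := by
  intro n
  induction n using Nat.strong_induction_on with
  | _ n ih =>
  intro K _ _ hn hnc
  subst hn
  have hp : p.Prime := Fact.out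
  by_contra hlt
  obtain ⟨hlm, hlp⟩ := lt_min_iff.1 (not_le.1 hlt)
  have hsub : ∀ L : Subgroup K, L ≠ ⊤ → IsPClosed p ↥L := fun L hL => by
    by_contra h
    exact hlt ((ih _ (card_lt_of_ne_top hL) L rfl h).trans (card_lt_of_ne_top hL).le)
  have hquo : ∀ (N : Subgroup K) [N.Normal], N ≠ ⊥ → IsPClosed p (K ⧸ N) := fun N _ hN => by
    by_contra h
    have hlt' : Nat.card (K ⧸ N) < Nat.card K := by
      rw [card_eq_card_quotient_mul_card_subgroup N]
      exact lt_mul_of_one_lt_right Nat.card_pos (one_lt_card_iff_ne_bot N |>.2 hN)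
    exact hlt ((ih _ hlt' (K ⧸ N) rfl h).trans hlt'.le)
  obtain ⟨P, hP⟩ : ∃ P : Sylow p K, ¬ (P : Subgroup K).Normal := not_forall.1 hnc
  have hnp : p + 1 ≤ Nat.card (Sylow p K) := by
    have h1 : Nat.card (Sylow p K) % p = 1 := by
      rw [card_sylow_modEq_one p K, Nat.mod_eq_of_lt hp.one_lt]
    have h2 : Nat.card (Sylow p K) ≠ 1 := fun h1 => hP (normalizer_eq_top_iff.1
      (index_eq_one.1 (P.card_eq_index_normalizer.symm.trans h1)))
    by_contra h3
    rcases Nat.lt_or_ge (Nat.card (Sylow p K)) p with h4 | h4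
    · rw [Nat.mod_eq_of_lt h4] at h1; exact h2 h1
    · rw [show Nat.card (Sylow p K) = p by omega, Nat.mod_self] at h1; omega
  have hcard : Nat.card ↥(P : Subgroup K) * (p + 1) ≤ Nat.card K := by
    calc _ ≤ Nat.card ↥(normalizer ((P : Subgroup K) : Set K)) * Nat.card (Sylow p K) :=
          Nat.mul_le_mul (card_le_of_le le_normalizer) hnp
      _ = _ := SmallOrder.card_normalizer_mul P
  obtain ⟨a, ha⟩ := P.isPGroup'.exists_card_eq
  have hPp : Nat.card ↥(P : Subgroup K) = p := by
    rcases a with _ | _ | a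
    · rw [pow_zero] at ha
      exact absurd (card_eq_one.1 ha ▸ normal_bot) hP
    · rwa [pow_one] at ha
    · exfalso
      rw [ha] at hcard
      have h1 : p ^ 2 * (p + 1) ≤ Nat.card K :=
        (Nat.mul_le_mul_right _ (Nat.pow_le_pow_right hp.pos (by omega))).trans hcard
      have h2 : p * (p ^ 2 - 1) / 2 ≤ p ^ 2 * (p + 1) := by
        refine (Nat.div_le_self _ _).trans ?_
        rw [pow_two, mul_assoc p p]
        refine Nat.mul_le_mul_left _ ((Nat.sub_le _ _).trans (Nat.mul_le_mul_left _ ?_))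
        omega
      omega
  by_cases hsimple : ∀ N : Subgroup K, N.Normal → N = ⊥ ∨ N = ⊤
  · have : Nontrivial K := Finite.one_lt_card_iff_nontrivial.1 (by
      have : 1 * (p + 1) ≤ Nat.card K := le_trans (Nat.mul_le_mul_right _ Nat.card_pos) hcard
      have := hp.two_le
      omega)
    haveI : IsSimpleGroup K := ⟨hsimple⟩
    refine absurd (simple_bound (fun hc => hP ?_) P hPp) (not_le.2 hlp)
    haveI := hc
    exact normal_of_comm _
  · push Not at hsimple
    obtain ⟨N, hNn, hNb, hNt⟩ := hsimple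
    obtain ⟨k, hk, hk1, hkle⟩ := bound_of_normal hnc hsub hquo P hPp N hNb hNt
    have := Nat.mul_le_mul_left p (hleast k hk hk1)
    omega

end CfsgLib.LeastNonPClosed
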