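import Cfsg.Agent.Lib.Linear.Card
import Cfsg.Prelude.Def_LocalStructure
import Mathlib.GroupTheory.SemidirectProduct

/-!
Groups of order `p m` and `p (p² - 1) / 2` which are not `p`-closed.
-/

set_option autoImplicit false
set_option linter.style.haveILetI false

namespace CfsgLib.LeastNonPClosed

open Subgroup Cfsg

variable {p : ℕ} [Fact p.Prime]

/-- scalar multiplication as automorphisms of the additive group, written multiplicatively -/
noncomputable def mulUnit (F : Type) [Field F] : Fˣ →* MulAut (Multiplicative F) where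
  toFun u :=
    { toFun := fun a => Multiplicative.ofAdd ((u : F) * a.toAdd)
      invFun := fun a => Multiplicative.ofAdd (((u⁻¹ : Fˣ) : F) * a.toAdd)
      left_inv := fun a => by simp
      right_inv := fun a => by simp
      map_mul' := fun a b => by simp [mul_add] }
  map_one' := by ext a; simp
  map_mul' u v := by ext a; simp [mul_assoc]

theorem exists_affine (m : ℕ) (hm : IsPrimePow m) (hm1 : m % p = 1) :
    ∃ (H : Type) (_ : Group H) (_ : Finite H), Nat.card H = p * m ∧ ¬ IsPClosed p H := by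
  classical
  obtain ⟨q, k, hq, hk, rfl⟩ := (isPrimePow_nat_iff _).1 hm
  haveI : Fact q.Prime := ⟨hq⟩
  have hcardF : Nat.card (GaloisField q k) = q ^ k := GaloisField.card q k hk.ne'
  let F := GaloisField q k
  haveI : Finite (GaloisField q k) := Nat.finite_of_card_ne_zero (by rw [hcardF]; exact (pow_pos hq.pos k).ne')
  have hp : p.Prime := Fact.out
  obtain ⟨ζ, hζ⟩ : ∃ ζ : Fˣ, orderOf ζ = p := by
    apply exists_prime_orderOf_dvd_card' p
    rw [Nat.card_units, hcardF]
    exact ⟨q ^ k / p, by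
      have := Nat.div_add_mod (q ^ k) p
      omega⟩
  let C := Subgroup.zpowers ζ
  have hC : Nat.card C = p := by rw [Nat.card_zpowers, hζ]
  let φ : C →* MulAut (Multiplicative F) := (mulUnit F).comp C.subtype
  refine ⟨Multiplicative F ⋊[φ] C, inferInstance, Finite.of_equiv _ SemidirectProduct.equivProd.symm, ?_, ?_⟩
  · rw [SemidirectProduct.card, hC, Nat.card_congr Multiplicative.toAdd, hcardF, mul_comm]
  intro hcl
  haveI : Finite (Multiplicative F ⋊[φ] C) := Finite.of_equiv _ SemidirectProduct.equivProd.symm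
  set R := (SemidirectProduct.inr : C →* Multiplicative F ⋊[φ] C).range
  have hR : Nat.card R = p := by
    rw [← hC]
    exact (Nat.card_congr (MonoidHom.ofInjective SemidirectProduct.inr_injective).toEquiv).symm
  obtain ⟨S, hS⟩ := (IsPGroup.of_card (n := 1) (hR.trans (pow_one p).symm)).exists_le_sylow
  have hScard : Nat.card ↥(S : Subgroup (Multiplicative F ⋊[φ] C)) = p := by
    rw [S.card_eq_multiplicity, SemidirectProduct.card, hC, Nat.card_congr Multiplicative.toAdd, hcardF]
    have hnd : ¬ p ∣ q ^ k := fun hd => by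
      rw [Nat.mod_eq_zero_of_dvd hd] at hm1; exact zero_ne_one hm1
    rw [Nat.factorization_mul (pow_pos hq.pos k).ne' hp.ne_zero, Finsupp.add_apply,
      Nat.factorization_eq_zero_of_not_dvd hnd, hp.factorization_self, zero_add, pow_one]
  have hn : R.Normal := by
    rw [eq_of_le_of_card_ge hS (hScard.trans hR.symm).le]
    exact hcl S
  obtain ⟨c, hc⟩ := hn.conj_mem _ ⟨⟨ζ, mem_zpowers ζ⟩, rfl⟩ (SemidirectProduct.inl (Multiplicative.ofAdd (1 : F)))
  rw [SemidirectProduct.ext_iff] at hc
  have h' : (1 : F) + (ζ : F) * (-1) = 0 := by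
    have h : (0 : F) = (1 + ((1 : Fˣ) : F) * 0) +
        ((1 * ζ : Fˣ) : F) * ((((1 : Fˣ)⁻¹ : Fˣ) : F) * (-1)) :=
      congrArg Multiplicative.toAdd hc.1
    simp at h ⊢
    linear_combination -h
  have h1 : (ζ : F) = 1 := by linear_combination -h'
  rw [Units.val_eq_one.1 h1, orderOf_one] at hζ
  exact hp.ne_one hζ.symm

theorem exists_psl (hp2 : p ≠ 2) :
    ∃ (H : Type) (_ : Group H) (_ : Finite H), Nat.card H = p * (p ^ 2 - 1) / 2 ∧ ¬ IsPClosed p H := by
  classical
  have hp : p.Prime := Fact.out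
  refine ⟨Matrix.ProjectiveSpecialLinearGroup (Fin 2) (ZMod p), inferInstance, inferInstance, ?_, ?_⟩
  all_goals
    have hcard := CfsgLib.Linear.card_PSL_mul (F := ZMod p) (n := Fin 2)
    rw [Fintype.card_fin, CfsgLib.Linear.card_SL_two, ZMod.card,
      Nat.gcd_eq_left (show 2 ∣ p - 1 by
        have := hp.eq_two_or_odd.resolve_left hp2
        omega)] at hcard
  · rw [← hcard, Nat.mul_div_cancel_left _ two_pos]
  intro hcl
  set G := Matrix.ProjectiveSpecialLinearGroup (Fin 2) (ZMod p)
  obtain ⟨S⟩ : Nonempty (Sylow p G) := inferInstance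
  have hp3 : 3 ≤ p := by have := hp.two_le; omega
  have hG : Nat.card G = p * ((p ^ 2 - 1) / 2) := by
    have h2 : 2 ∣ p ^ 2 - 1 := by
      have := hp.eq_two_or_odd.resolve_left hp2
      have h := Nat.pow_mod p 2 2
      rw [this] at h
      simp at h
      omega
    rw [← Nat.mul_div_assoc p h2, ← hcard, Nat.mul_div_cancel_left _ two_pos]
  have hnd : ¬ p ∣ (p ^ 2 - 1) / 2 := by
    intro hd
    have h2 : p ∣ p ^ 2 - 1 := hd.trans (Nat.div_dvd_of_dvd (by
      have := hp.eq_two_or_odd.resolve_left hp2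
      have h := Nat.pow_mod p 2 2
      rw [this] at h
      simp at h
      omega))
    have h3 : p ∣ p ^ 2 - (p ^ 2 - 1) := Nat.dvd_sub (dvd_pow_self p two_ne_zero) h2
    rw [Nat.sub_sub_self (Nat.one_le_pow _ _ hp.pos)] at h3
    exact hp.not_dvd_one h3
  have hS : Nat.card ↥(S : Subgroup G) = p := by
    rw [S.card_eq_multiplicity, hG,
      Nat.factorization_mul hp.ne_zero (by rintro h0; exact hnd (h0 ▸ dvd_zero p)), Finsupp.add_apply,
      Nat.factorization_eq_zero_of_not_dvd hnd, hp.factorization_self, add_zero, pow_one]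
  haveI := Sylow.unique_of_normal S (hcl S)
  let mkU : ZMod p → ZMod p → Matrix.SpecialLinearGroup (Fin 2) (ZMod p) := fun a b =>
    if hb : a * b = 0 then ⟨!![1, a; b, 1], by rw [Matrix.det_fin_two_of, hb]; simp⟩ else 1
  have hmem : ∀ g : Matrix.SpecialLinearGroup (Fin 2) (ZMod p), g ^ p = 1 →
      (QuotientGroup.mk g : G) ∈ (S : Subgroup G) := by
    intro g hg
    have hz : IsPGroup p (Subgroup.zpowers (QuotientGroup.mk g : G)) := by
      rw [IsPGroup.iff_card]
      rw [Nat.card_zpowers]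
      obtain ⟨i, -, hi⟩ := (Nat.dvd_prime_pow hp).1 (orderOf_dvd_of_pow_eq_one
        (show (QuotientGroup.mk g : G) ^ p ^ 1 = 1 by
          rw [pow_one, ← QuotientGroup.mk_pow, hg]; rfl))
      exact ⟨i, hi⟩
    obtain ⟨T, hT⟩ := hz.exists_le_sylow
    rw [Subsingleton.elim T S] at hT
    exact hT (Subgroup.mem_zpowers _)
  have hupow : ∀ i : ℕ, ((mkU 1 0 ^ i : Matrix.SpecialLinearGroup (Fin 2) (ZMod p)) : Matrix (Fin 2) (Fin 2) (ZMod p)) =
      !![1, (i : ZMod p); 0, 1] := by
    intro i
    induction i with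
    | zero => simp [Matrix.one_fin_two]
    | succ i ih => rw [pow_succ, Matrix.SpecialLinearGroup.coe_mul, ih]; simp [mkU, add_comm]
  have hlpow : ∀ i : ℕ, ((mkU 0 1 ^ i : Matrix.SpecialLinearGroup (Fin 2) (ZMod p)) : Matrix (Fin 2) (Fin 2) (ZMod p)) =
      !![1, 0; (i : ZMod p), 1] := by
    intro i
    induction i with
    | zero => simp [Matrix.one_fin_two]
    | succ i ih => rw [pow_succ, Matrix.SpecialLinearGroup.coe_mul, ih]; simp [mkU]
  have hu := hmem (mkU 1 0) (Subtype.ext (by rw [hupow, ZMod.natCast_self]; simp [Matrix.one_fin_two]))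
  have hl := hmem (mkU 0 1) (Subtype.ext (by rw [hlpow, ZMod.natCast_self]; simp [Matrix.one_fin_two]))
  have hu1 : (QuotientGroup.mk (mkU 1 0) : G) ≠ 1 := by
    rw [Ne, QuotientGroup.eq_one_iff, Matrix.SpecialLinearGroup.mem_center_iff]
    rintro ⟨r, -, hr⟩
    have := congrFun (congrFun hr 0) 1
    simp [mkU, Matrix.scalar_apply] at this
  have hgen : Subgroup.zpowers (QuotientGroup.mk (mkU 1 0) : G) = (S : Subgroup G) := by
    refine eq_of_le_of_card_ge ((Subgroup.zpowers_le).2 hu) ?_
    rw [hS, Nat.card_zpowers]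
    rcases hp.eq_one_or_self_of_dvd _ (hS ▸ Subgroup.orderOf_dvd_natCard _ hu) with h | h
    · exact absurd (orderOf_eq_one_iff.1 h) hu1
    · exact h.ge
  rw [← hgen, ← mem_powers_iff_mem_zpowers] at hl
  obtain ⟨i, hi⟩ := hl
  simp only [← QuotientGroup.mk_pow, QuotientGroup.eq, Matrix.SpecialLinearGroup.mem_center_iff] at hi
  obtain ⟨r, -, hr⟩ := hi
  rw [Matrix.SpecialLinearGroup.coe_mul, Matrix.SpecialLinearGroup.coe_inv, hupow] at hr
  have := congrFun (congrFun hr 1) 0
  simp [mkU, Matrix.adjugate_fin_two, Matrix.scalar_apply] at this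

end CfsgLib.LeastNonPClosed
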