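import Cfsg.Agent.Lib.LeastNonPClosed.Weight
import Cfsg.Agent.Lib.SmallOrder.DegreeCheck
import Mathlib.GroupTheory.Sylow
import Mathlib.Tactic.Linarith
import Mathlib.Tactic.Ring

/-!
A simple group with a Sylow subgroup of prime order `p` has order at least `p (p² - 1) / 2`.
-/

set_option autoImplicit false

namespace CfsgLib.LeastNonPClosed

open Subgroup CfsgLib.SmallOrder

universe u

theorem sum_map_const {α : Type*} {g : α → ℤ} {a : ℤ} :
    ∀ l : List α, (∀ x ∈ l, g x = a) → (l.map g).sum = (l.length : ℤ) * a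
  | [], _ => by simp
  | b :: l, h => by
    rw [List.map_cons, List.sum_cons, sum_map_const l fun x hx => h x (List.mem_cons_of_mem _ hx),
      h b (List.mem_cons_self ..), List.length_cons]
    push_cast
    ring

/-- the arithmetic: a non-principal non-exceptional degree is the number of Sylow subgroups -/
theorem degree_eq {p c e n k f : ℕ} {w : ℤ} (hp : p.Prime) (hn : n = 1 + k * p)
    (hbig : 2 * (e * c * n) < p ^ 2 - 1) (hec : 2 * (e * c) < p - 1) (he : 2 ≤ e) (hc : 0 < c) (hef : e ≤ f)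
    (hf : f ∣ p * (e * c * n)) (hw : w = 1 ∨ w = -1) (hmod : (p : ℤ) ∣ (f : ℤ) + w) :
    w = -1 ∧ f = n := by
  have hpf : ¬ p ∣ f := by
    intro h
    have h1 : (p : ℤ) ∣ w := (dvd_add_right (Int.natCast_dvd_natCast.2 h)).1 hmod
    have := hp.two_le
    rcases hw with rfl | rfl
    · have := Int.le_of_dvd one_pos h1; omega
    · have := Int.le_of_dvd one_pos (dvd_neg.1 h1); omega
  obtain ⟨g, hg⟩ := ((hp.coprime_iff_not_dvd.2 hpf).symm).dvd_of_dvd_mul_left hf
  obtain ⟨j, hj⟩ := hmod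
  have hfp : p ≤ f + 1 := by
    have h2 : 1 ≤ j := by
      by_contra h0
      have : (f : ℤ) + w ≤ 0 := by rw [hj]; exact mul_nonpos_of_nonneg_of_nonpos (by simp) (by omega)
      rcases hw with rfl | rfl <;> omega
    have : (p : ℤ) ≤ (f : ℤ) + w := by rw [hj]; exact le_mul_of_one_le_right (by simp) h2
    rcases hw with rfl | rfl <;> omega
  have hg2 : 2 * g < p + 1 := by
    have h1 : g * (p - 1) ≤ e * c * n := by
      rw [hg, mul_comm f g]; exact Nat.mul_le_mul_left g (by omega)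
    have h2 : p ^ 2 - 1 = (p + 1) * (p - 1) := by
      rw [pow_two, ← Nat.sq_sub_sq p 1, one_pow, pow_two]
    refine lt_of_mul_lt_mul_right (a := p - 1) ?_ (Nat.zero_le _)
    calc 2 * g * (p - 1) ≤ 2 * (e * c * n) := by rw [mul_assoc]; omega
      _ < _ := h2 ▸ hbig
  have hdvd : (p : ℤ) ∣ (e * c : ℕ) + (g : ℤ) * w := by
    refine ⟨(g : ℤ) * j - (e * c * k : ℕ), ?_⟩
    have h1 : ((e * c * n : ℕ) : ℤ) = (f : ℤ) * g := by rw [hg]; push_cast; ring
    rw [hn] at h1
    push_cast at h1 ⊢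
    linear_combination h1 + (g : ℤ) * hj
  have habs : |((e * c : ℕ) : ℤ) + (g : ℤ) * w| < p := by
    rw [abs_lt]
    rcases hw with rfl | rfl <;> constructor <;> push_cast <;> omega
  have h0 := Int.eq_zero_of_abs_lt_dvd hdvd habs
  rcases hw with rfl | rfl
  · exfalso
    have h1 : 0 < e * c := Nat.mul_pos (by omega) hc
    omega
  · refine ⟨rfl, ?_⟩
    have hge : g = e * c := by omega
    subst hge
    rw [mul_comm f] at hg
    exact (Nat.eq_of_mul_eq_mul_left (Nat.mul_pos (by omega) hc) hg).symm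

theorem simple_bound {G : Type u} [Group G] [Finite G] [IsSimpleGroup G] (hG : ¬ IsMulCommutative G)
    {p : ℕ} [Fact p.Prime] (P : Sylow p G) (hP : Nat.card ↥(P : Subgroup G) = p) :
    p * (p ^ 2 - 1) / 2 ≤ Nat.card G := by
  classical
  cases nonempty_fintype G
  have hp : p.Prime := Fact.out
  obtain ⟨S⟩ := exists_csplit P hP
  obtain ⟨c₀, e₀, t, hC₀, hN₀, -, he₀, het, -⟩ := exists_degreeSolution hG P hP
  have hc : Nat.card S.V = c₀ := by
    have := S.card_centralizer
    rw [hC₀] at this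
    exact (Nat.eq_of_mul_eq_mul_left hp.pos this).symm
  subst hc
  have he₁ : Nat.card S.act.range = e₀ := by
    have := S.card_normalizer
    rw [hN₀] at this
    exact (Nat.eq_of_mul_eq_mul_left (Nat.mul_pos hp.pos Nat.card_pos) this).symm
  subst he₁
  obtain ⟨B⟩ := S.exists_blockSolution het he₀
  set c := Nat.card S.V with hcdef
  set e := Nat.card S.act.range with hedef
  set n := Nat.card (Sylow p G) with hndef
  have hcard : Nat.card G = p * (e * c * n) := by
    rw [← card_normalizer_mul P, hN₀]; ring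
  have hn1 : n ≠ 1 := by
    intro h1
    have h : normalizer ((P : Subgroup G) : Set G) = ⊤ :=
      Subgroup.index_eq_one.1 (P.card_eq_index_normalizer.symm.trans h1)
    rw [normalizer_eq_top_iff] at h
    rcases h.eq_bot_or_eq_top with hb | ht
    · rw [hb, Subgroup.card_bot] at hP
      exact hp.ne_one hP.symm
    · rw [ht, Subgroup.card_top] at hP
      have := isCyclic_of_prime_card hP
      exact hG ⟨⟨(IsCyclic.commGroup (α := G)).mul_comm⟩⟩
  obtain ⟨k, hk⟩ : ∃ k, n = 1 + k * p := by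
    have h := card_sylow_modEq_one p G
    refine ⟨n / p, ?_⟩
    have h1 : n % p = 1 := by rw [h, Nat.mod_eq_of_lt hp.one_lt]
    rw [← h1]
    exact (Nat.mod_add_div' n p).symm
  have hk0 : 0 < k := Nat.pos_of_ne_zero (by rintro rfl; simp at hk; exact hn1 hk)
  have hnp : p + 1 ≤ n := by
    rw [hk]; have := Nat.mul_le_mul_right p hk0; omega
  by_contra hlt
  have hbig : 2 * (e * c * n) < p ^ 2 - 1 := by
    refine lt_of_mul_lt_mul_left (a := p) ?_ (Nat.zero_le _)
    rw [hcard] at hlt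
    rw [mul_left_comm]
    omega
  have hp1 : p ^ 2 - 1 = (p - 1) * (p + 1) := by
    rw [mul_comm, pow_two, ← Nat.sq_sub_sq p 1, one_pow, pow_two]
  have hec : 2 * (e * c) < p - 1 := by
    refine lt_of_mul_lt_mul_right (a := p + 1) ?_ (Nat.zero_le _)
    calc 2 * (e * c) * (p + 1) ≤ 2 * (e * c) * n := Nat.mul_le_mul_left _ hnp
      _ < _ := by rw [mul_assoc]; exact hp1 ▸ hbig
  have hcpos : 1 ≤ c := Nat.card_pos
  have ht3 : 3 ≤ t := by
    have h1 : e * (2 * c) < e * t := by rw [het]; calc _ = 2 * (e * c) := by ring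
      _ < _ := hec
    have := Nat.lt_of_mul_lt_mul_left h1
    omega
  -- the weights
  have hweight : ∀ (χ : Cfsg.IrrCharacter G) (u : ℤ), (∑ᶠ o : S.Orb, S.vec χ o) = u → u ≠ 0 →
      u ∣ (t : ℤ) := by
    intro χ u hu hu0
    obtain ⟨M, hM, hd⟩ := exists_mult_mem S χ
    rw [hu, ← hedef] at hd
    have het' : (e : ℤ) * t = ((p - 1 : ℕ) : ℤ) := by exact_mod_cast het
    have hM' : (M : ℤ) ≠ 0 := Int.natCast_ne_zero.2 hM
    have he' : (e : ℤ) ≠ 0 := Int.natCast_ne_zero.2 (by omega)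
    rcases hd with h | h | h
    · exact absurd h (mul_ne_zero hM' (mul_ne_zero he' hu0))
    · rw [← het', mul_left_comm] at h
      exact ⟨M, by rw [← mul_left_cancel₀ he' h, mul_comm]⟩
    · rw [← het', mul_left_comm, ← mul_neg] at h
      exact ⟨-M, by rw [mul_neg, mul_comm, mul_left_cancel₀ he' h, neg_neg]⟩
  have ht' : (3 : ℤ) ≤ t := by exact_mod_cast ht3
  have hk' : B.sol.k = 0 := by
    have hεk : (t : ℤ) * B.sol.k + B.sol.ε ≠ 0 := by
      intro h
      have hd : (t : ℤ) ∣ B.sol.ε := ⟨-B.sol.k, by linarith⟩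
      have hε := B.sol.hε
      rcases hε with hε | hε <;> rw [hε] at hd
      · have := Int.le_of_dvd one_pos hd; omega
      · have := Int.le_of_dvd one_pos (dvd_neg.1 hd); omega
    have hd := hweight B.χ0 _ B.hsum0 hεk
    have h1 : ((t : ℤ) * B.sol.k + B.sol.ε) ∣ B.sol.ε := by
      have := (dvd_refl ((t : ℤ) * B.sol.k + B.sol.ε)).sub (hd.mul_right B.sol.k)
      simpa using this
    have h2 : ((t : ℤ) * B.sol.k + B.sol.ε) = 1 ∨ ((t : ℤ) * B.sol.k + B.sol.ε) = -1 := by
      refine Int.isUnit_iff.1 (isUnit_of_dvd_one ?_)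
      rcases B.sol.hε with hε | hε <;> rw [hε] at h1
      · rwa [hε]
      · rw [hε]; exact dvd_neg.1 h1
    by_contra hne
    have hq : 3 ≤ |(t : ℤ) * B.sol.k| := by
      rw [abs_mul, Nat.abs_cast]
      nlinarith [Int.one_le_abs hne]
    rcases B.sol.hε with hε | hε <;> rcases h2 with h2 | h2 <;> rw [hε] at h2 <;>
      rcases le_abs.1 hq with h3 | h3 <;> omega
  have hl : ∀ x ∈ B.sol.l, x.1 = -1 ∧ x.2 = n := by
    intro x hx
    obtain ⟨hx0, hxe, hxd', hxm⟩ := B.sol.others x hx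
    have hxd : x.2 ∣ p * (e * c * n) := hxd'.trans (dvd_of_eq hcard)
    refine degree_eq hp hk hbig hec he₀ Nat.card_pos hxe hxd ?_ hxm
    rw [B.hl, List.mem_map] at hx
    obtain ⟨y, hy, rfl⟩ := hx
    have hd := hweight y.2 _ (B.hsum y hy) (mul_ne_zero (by omega) hx0)
    have h1 : y.1 ∣ 1 := (Int.mul_dvd_mul_iff_left (by omega : (t : ℤ) ≠ 0)).1 (by simpa using hd)
    exact Int.isUnit_iff.1 (isUnit_of_dvd_one h1)
  have hnorm := B.sol.norm
  have hdeg := B.sol.degEq
  rw [sum_map_const (a := -(n : ℤ)) B.sol.l (fun x hx => by rw [(hl x hx).1, (hl x hx).2]; ring),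
    hk'] at hdeg
  rw [sum_map_const (a := (1 : ℤ)) B.sol.l (fun x hx => by rw [(hl x hx).1]; ring), hk'] at hnorm
  replace hnorm : _ = (e : ℤ) := hnorm
  simp only [mul_zero, zero_add, mul_one, ne_eq, OfNat.ofNat_ne_zero, not_false_eq_true, zero_pow,
    add_zero] at hdeg hnorm
  have hε1 : B.sol.ε = 1 := by
    rcases B.sol.hε with h | h
    · exact h
    · rw [h] at hdeg
      nlinarith [Int.natCast_nonneg B.sol.f0, Int.natCast_nonneg B.sol.l.length, Int.natCast_nonneg n]
  rw [hε1, one_mul] at hdeg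
  have hlen : B.sol.l.length + 1 = e := by omega
  have hf0 : B.sol.f0 = 1 + B.sol.l.length * n := by
    have : (B.sol.f0 : ℤ) = 1 + (B.sol.l.length : ℤ) * n := by linarith
    exact_mod_cast this
  have hcn : B.sol.f0.Coprime n := by
    rw [hf0, Nat.coprime_add_mul_right_left]; exact Nat.coprime_one_left n
  have hfd : B.sol.f0 ∣ p * (e * c * n) := B.sol.f0_dvd.trans (dvd_of_eq hcard)
  have hpf : ¬ p ∣ B.sol.f0 := by
    intro h
    have h1 : B.sol.f0 = e + B.sol.l.length * k * p := by rw [hf0, hk, ← hlen]; ring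
    rw [h1, Nat.dvd_add_left (Dvd.intro_left _ rfl)] at h
    have := Nat.le_of_dvd (by omega) h
    have := Nat.le_mul_of_pos_right e hcpos
    omega
  have h2 : B.sol.f0 ∣ e * c :=
    hcn.dvd_of_dvd_mul_right (((hp.coprime_iff_not_dvd.2 hpf).symm).dvd_of_dvd_mul_left hfd)
  have h3 := Nat.le_of_dvd (Nat.mul_pos (by omega) hcpos) h2
  have h4 := Nat.le_mul_of_pos_left n (show 0 < B.sol.l.length by omega)
  omega

end CfsgLib.LeastNonPClosed
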