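import Cfsg.Agent.Lib.SmallOrder.InvolutionBound
import Cfsg.Agent.Lib.DefectOne.Master
import Cfsg.Agent.Lib.DefectOne.SimpleLattice
import Cfsg.Agent.Lib.CharTools.Basic

/-!
The total weight of an irreducible character for a Sylow subgroup of prime order: a non-zero multiple
of it is `0` or `± (p - 1)`.
-/

set_option autoImplicit false

open scoped ComplexConjugate

namespace CfsgLib.LeastNonPClosed

open Subgroup CfsgLib.SmallOrder CfsgLib.DefectOne

universe u

variable {G : Type u} [Group G] [Fintype G] {p : ℕ} [Fact p.Prime] {P : Sylow p G} (S : CSplit p P)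

theorem hypOne : HypOne p S.z := by
  refine ⟨Fact.out, S.hz, fun h => ?_⟩
  obtain ⟨Q, hQ⟩ := Sylow.exists_subgroup_card_pow_prime p h
  obtain ⟨R, hR⟩ := (IsPGroup.of_card hQ).exists_le_sylow
  have h1 := Subgroup.card_le_of_le hR
  have hP : Nat.card ↥(P : Subgroup G) = p := by
    rw [← S.hP, Nat.card_zpowers, S.hz]
  rw [hQ, R.card_eq_multiplicity, ← P.card_eq_multiplicity, hP, pow_two] at h1
  have := (Fact.out : p.Prime).two_le
  nlinarith

theorem cent_eq : cent S.z = centralizer ((P : Subgroup G) : Set G) := by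
  rw [← S.hP]
  show centralizer ({S.z} : Set G) = centralizer ((zpowers S.z : Subgroup G) : Set G)
  rw [zpowers_eq_closure, centralizer_closure]

theorem regPart_eq : regPart p S.z = S.V := by
  ext g
  rw [(hypOne S).mem_regPart_iff, cent_eq S, S.mem_V_iff]
  refine ⟨fun ⟨hg, hd⟩ => ⟨hg, ?_⟩, fun ⟨hg, h1⟩ => ⟨hg, fun hd => ?_⟩⟩
  · obtain ⟨i, v, hv, rfl⟩ := S.hC g hg
    have hdvd : orderOf (zpw S.z i * v) ∣ p * Nat.card S.V := by
      refine orderOf_dvd_of_pow_eq_one ?_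
      rw [mul_comm p, pow_mul, S.pow_card i hv, zpw_mul S.hz, ZMod.natCast_self, zero_mul, zpw_zero]
    exact orderOf_dvd_iff_pow_eq_one.1
      ((((Fact.out : p.Prime).coprime_iff_not_dvd.2 hd).symm).dvd_of_dvd_mul_left hdvd)
  · exact S.hcop (hd.trans (orderOf_dvd_of_pow_eq_one h1))

/-- the sum of the `Ssum` over the non-trivial powers -/
theorem sum_Ssum_ne_zero (χ : Cfsg.IrrCharacter G) :
    ∑ i ∈ Finset.univ.erase (0 : ZMod p), S.Ssum χ.1 i =
      -((Nat.card S.V : ℂ) * ((Nat.card S.act.range : ℤ) * ∑ᶠ o : S.Orb, S.vec χ o : ℤ)) := by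
  classical
  rw [← S.sum_rmult]
  have hp0 : (p : ℂ) ≠ 0 := Nat.cast_ne_zero.2 (Fact.out : p.Prime).ne_zero
  apply mul_left_cancel₀ hp0
  rw [Int.cast_sum, Finset.mul_sum (a := (Nat.card S.V : ℂ)), ← Finset.sum_neg_distrib, Finset.mul_sum,
    Finset.mul_sum]
  conv_rhs => simp only [mul_neg, ← mul_assoc, S.rmult_spec]
  rw [Finset.sum_neg_distrib, Finset.sum_comm,
    ← Finset.add_sum_erase _ (fun i => ∑ j : ZMod p, S.Ssum χ.1 i * (ZMod.stdAddChar (-(j * i)) - 1))
      (Finset.mem_univ (0 : ZMod p))]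
  simp only [mul_zero, neg_zero, AddChar.map_zero_eq_one, sub_self, mul_zero,
    Finset.sum_const_zero, zero_add]
  rw [← Finset.sum_neg_distrib]
  refine Finset.sum_congr rfl fun i hi => ?_
  rw [← Finset.mul_sum, Finset.sum_sub_distrib, Finset.sum_const, Finset.card_univ, ZMod.card]
  have h := sum_stdAddChar (p := p) (-i)
  rw [if_neg (neg_ne_zero.2 (Finset.mem_erase.1 hi).1)] at h
  have h' : ∑ j : ZMod p, (ZMod.stdAddChar (-(j * i)) : ℂ) = 0 := by simpa [mul_neg] using h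
  rw [h']
  simp [mul_comm]

theorem sum_Ico_eq {M : Type*} [AddCommMonoid M] (f : ZMod p → M) :
    ∑ i ∈ Finset.Ico 1 p, f (i : ZMod p) = ∑ i ∈ Finset.univ.erase (0 : ZMod p), f i := by
  refine Finset.sum_bij' (fun i _ => (i : ZMod p)) (fun a _ => a.val) (fun i hi => ?_) (fun a ha => ?_)
    (fun i hi => ?_) (fun a _ => ?_) (fun i _ => rfl)
  · refine Finset.mem_erase.2 ⟨fun h => ?_, Finset.mem_univ _⟩
    rw [ZMod.natCast_eq_zero_iff] at h
    obtain ⟨h1, h2⟩ := Finset.mem_Ico.1 hi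
    exact absurd (Nat.le_of_dvd h1 h) (by omega)
  · exact Finset.mem_Ico.2 ⟨Nat.one_le_iff_ne_zero.2 (fun h => (Finset.mem_erase.1 ha).1
      ((ZMod.val_eq_zero a).1 h)), a.val_lt⟩
  · rw [ZMod.val_natCast, Nat.mod_eq_of_lt (Finset.mem_Ico.1 hi).2]
  · exact ZMod.natCast_zmod_val a

theorem Ssum_eq_sum_regPart (f : G → ℂ) (i : ℕ) :
    S.Ssum f (i : ZMod p) = ∑ᶠ v : regPart p S.z, f (S.z ^ i * (v : G)) := by
  rw [CSplit.Ssum, zpw_natCast S.hz]
  exact (finsum_comp_equiv (MulEquiv.subgroupCongr (regPart_eq S)).toEquiv).symm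

theorem exists_mult_mem (χ : Cfsg.IrrCharacter G) :
    ∃ M : ℕ, M ≠ 0 ∧
      let d := (M : ℤ) * ((Nat.card S.act.range : ℤ) * ∑ᶠ o : S.Orb, S.vec χ o)
      d = 0 ∨ d = ((p - 1 : ℕ) : ℤ) ∨ d = -((p - 1 : ℕ) : ℤ) := by
  classical
  have hx := hypOne S
  obtain ⟨d, ρ, m, hm, horb, htr, hloc⟩ := hx.exists_lattice χ
  let φ : Cfsg.IrrCharacter (regPart p S.z) := Char.principalIrr
  refine ⟨∑ ψ, m ψ, fun h => hm (Finset.sum_eq_zero_iff.1 h χ (Finset.mem_univ _)), ?_⟩
  intro D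
  have key := sum_secCoef_mem hx ρ φ hloc
  have hc : (Nat.card (regPart p S.z) : ℂ) ≠ 0 := Nat.cast_ne_zero.2 Nat.card_pos.ne'
  have hcard : Nat.card (regPart p S.z) = Nat.card S.V := by rw [regPart_eq S]
  have hval : ∑ i ∈ Finset.Ico 1 p, secCoef p S.z (fun g => emb p (ρ g).trace) φ i = -((D : ℤ) : ℂ) := by
    have h1 : ∀ i, secCoef p S.z (fun g => emb p (ρ g).trace) φ i =
        (Nat.card S.V : ℂ)⁻¹ * ∑ ψ, (m ψ : ℂ) * S.Ssum ψ.1 (i : ZMod p) := by
      intro i
      haveI := Fintype.ofFinite (regPart p S.z)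
      rw [secCoef, hcard]
      congr 1
      simp only [Ssum_eq_sum_regPart, finsum_eq_sum_of_fintype, Finset.mul_sum]
      rw [Finset.sum_comm]
      refine Finset.sum_congr rfl fun v _ => ?_
      rw [htr, show (φ : regPart p S.z → ℂ) v = 1 from Char.principalIrr_apply v, map_one, mul_one]
    simp only [h1]
    rw [← Finset.mul_sum, Finset.sum_comm]
    have h2 : ∀ ψ, (m ψ : ℂ) * ∑ i ∈ Finset.Ico 1 p, S.Ssum ψ.1 (i : ZMod p) =
        (m ψ : ℂ) * ∑ i ∈ Finset.univ.erase (0 : ZMod p), S.Ssum χ.1 i := by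
      intro ψ
      rcases eq_or_ne (m ψ) 0 with h0 | h0
      · simp [h0]
      congr 1
      obtain ⟨u, rfl⟩ := horb ψ h0
      set k : ZMod p := ((u.1 : ZMod (Nat.card G)).val : ZMod p) with hk
      have hk0 : k ≠ 0 := by
        intro hk0
        rw [hk, ZMod.natCast_eq_zero_iff] at hk0
        have hdvd : p ∣ Nat.card G := S.hz ▸ orderOf_dvd_natCard S.z
        exact (Fact.out : p.Prime).not_dvd_one
          (Nat.dvd_gcd hk0 hdvd |>.trans (dvd_of_eq (ZMod.val_coe_unit_coprime u.1)))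
      rw [← sum_Ico_eq (fun i => S.Ssum χ.1 i)]
      have h3 : ∀ i : ℕ, S.Ssum (u • χ : Cfsg.IrrCharacter G).1 (i : ZMod p) =
          S.Ssum χ.1 ((i : ZMod p) * k) := by
        intro i
        rw [hk, ← Nat.cast_mul, Ssum_eq_sum_regPart, Ssum_eq_sum_regPart]
        exact finsum_congr fun v => hx.smul_singular u χ i v
      simp only [h3]
      rw [sum_Ico_eq (fun i => S.Ssum χ.1 (i * k)), sum_Ico_eq (fun i => S.Ssum χ.1 i)]
      exact Finset.sum_equiv (Equiv.mulRight₀ k hk0) (fun i => by simp [hk0]) (fun i _ => rfl)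
    simp only [Finset.mul_sum] at h2 ⊢
    have hsum := sum_Ssum_ne_zero S χ
    calc _ = (Nat.card S.V : ℂ)⁻¹ * ∑ ψ, (m ψ : ℂ) *
          ∑ i ∈ Finset.univ.erase (0 : ZMod p), S.Ssum χ.1 i := by
            simp only [Finset.mul_sum]
            refine Finset.sum_congr rfl fun ψ _ => ?_
            rw [← Finset.mul_sum (a := (Nat.card S.V : ℂ)⁻¹), ← Finset.mul_sum (a := (Nat.card S.V : ℂ)⁻¹)]
            exact congrArg _ (h2 ψ)
      _ = -((D : ℤ) : ℂ) := by
            rw [hsum, ← Finset.sum_mul]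
            simp only [D]
            push_cast
            field_simp
  rw [hval] at key
  rcases key with h | h | h
  · left; exact_mod_cast neg_eq_zero.1 h
  · right; right
    have : ((D : ℤ) : ℂ) = ((-((p - 1 : ℕ) : ℤ) : ℤ) : ℂ) := by
      rw [Int.cast_neg, Int.cast_natCast, ← h, neg_neg]
    exact Int.cast_injective this
  · right; left
    rw [neg_inj] at h
    exact_mod_cast h

end CfsgLib.LeastNonPClosed
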